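import Cfsg.Agent.Omega.NO3S.Gamma.OnePr
import Cfsg.Agent.Omega.NO3S.BetaFF.ActOf
import Cfsg.Agent.Omega.NO3S.Level.Top
import Cfsg.Agent.Omega.NO3b.Wc.Alt

/-!
# GammaFF, (T1) and (T2) of helper905 #19871

`K = WH S L` : the largest subgroup of `C_S(V_L)` which is weakly closed in `S`; `M = ML S L = N_G(K)`,
`V(L) = VL S L = ⟨Z^M⟩` (`NO3b/Wc/Frame.lean`).

* `Kf S L V` : `V` is elementary abelian, normal in `M`, `V_L ≤ V ≤ C(K)`; `C_S(V_L)` is normal in `L ≥ S`;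
* `Kf.cs_V` : `C_S(V) = K`; `Kf.principle`; `Kf.pr`; `Kf.flat` : FLAT holds for every maximal bad `F`;
* `Kf.eq` : **(T1)** an offender on `V`, `L = P ∈ P*(S)`, `C_{V_P}(O²(P)) = 1` ⟹ `V = V_P`, `K = O₂(P)`;
* `Kf.exists_act` : a bad subgroup of `V` ⟹ some `W_F ≤ S` moves `V_P`;
* `dichotomy` : **(T1)** `V(P)` is not FF, or `V(P) = V_P` and `O₂(P) = K` is weakly closed in `S`;
* `Y S P` : `⟨Ω₁(Z(O₂(P)))^M⟩`; `t2` : **(T2)** if `Ω₁(Z(O₂(P))) ≠ V_P`, then `Y S P` is not FF and has no bad subgroup;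
* `t3` : **(T3)** if `V(P)` is not FF and has a bad subgroup, then `Ω₁(Z(O₂(P))) = V_P`, and `W_F ≤ S` moves `V_P` for some
  maximal bad `F` (`BetaFF.Act`: `C_V(C_W(V_P)) = V_P F < E`).
-/

set_option autoImplicit false
set_option linter.unusedSectionVars false

namespace Cfsg.Agent.Omega.NO3S.Gamma

open Subgroup Cfsg Cfsg.Agent.ZN.ChoiceSit Cfsg.Agent.Omega.MinPar Cfsg.Agent.Omega.Frame
open Cfsg.Agent.ZN (o2 zc zl jj)
open Cfsg.Agent.ZN.ChoiceBase (cj cj_mono cj_cj cj_inv_cj cj_cj_inv cj_inf cj_centralizer card_cj mem_cj cj_le_iff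
  cj_eq_of_mem_normalizer mem_normalizer_iff_cj isPGroup_cj)
open Cfsg.Agent.Omega.FFThm
open Cfsg.Agent.Omega.NO3b.Wc
open scoped Pointwise
open Cfsg.Agent.Omega.NO3b.Union (badFam badFam_cj not_WW_le)
open Cfsg.Agent.Omega.NOne.Flat (Bad)
open Cfsg.Agent.Omega.FrameNOFF (CZ)
open Cfsg.Agent.MinSimple.VModule (le_normalizer_zl)

universe u

variable {G : Type u} [Group G]

/-- `V` is elementary abelian and normal in `M = N_G(K(L))`, `V_L ≤ V ≤ C(K(L))`; `C_S(V_L)` is normal in `L ≥ S`. -/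
structure Kf [Finite G] (S : Sylow 2 G) (L V : Subgroup G) : Prop where
  le : (S : Subgroup G) ≤ L
  cs : L ≤ normalizer (QL (S : Subgroup G) L : Set G)
  sq : ∀ v ∈ V, v ^ 2 = 1
  comm : V ≤ centralizer (V : Set G)
  LV : zl (S : Subgroup G) L ≤ V
  KV : WH (S : Subgroup G) L ≤ centralizer (V : Set G)
  nV : ML (S : Subgroup G) L ≤ normalizer (V : Set G)

namespace Kf

variable [Finite G] {S : Sylow 2 G} {L V : Subgroup G} (h : Kf S L V)
include h

theorem L_le : L ≤ ML (S : Subgroup G) L := by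
  intro l hl
  refine mem_ML_of_le ?_
  have h1 := cj_mono l (WH_le (S : Subgroup G) L)
  rw [cj_eq_of_mem_normalizer (h.cs hl)] at h1
  exact h1.trans inf_le_left

theorem S_le : (S : Subgroup G) ≤ ML (S : Subgroup G) L := h.le.trans h.L_le

theorem SV : (S : Subgroup G) ≤ normalizer (V : Set G) := h.S_le.trans h.nV

theorem V_le_S : V ≤ (S : Subgroup G) :=
  MinPar.le_of_le_normalizer S (NO3b.NoEmp.pgroup_of_sq h.sq) h.SV

theorem V_two : IsPGroup 2 V := S.isPGroup'.to_le h.V_le_S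

theorem ZV : zc (S : Subgroup G) ≤ V := (MinSimple.VModule.zc_le_zl _ _).trans h.LV

/-- `C_S(V) = K` -/
theorem cs_V : (S : Subgroup G) ⊓ centralizer (V : Set G) = WH (S : Subgroup G) L := by
  refine le_antisymm (le_WH ⟨inf_le_left, fun g hg => ?_⟩ (inf_le_inf_left _ (centralizer_le h.LV)))
    (le_inf (WH_le_S _ _) h.KV)
  have h1 : WH (S : Subgroup G) L ≤ (S : Subgroup G) ⊓ centralizer (V : Set G) := le_inf (WH_le_S _ _) h.KV
  have h2 : g ∈ ML (S : Subgroup G) L := mem_ML_of_le ((cj_mono g h1).trans hg)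
  have h3 : cj g V = V := cj_eq_of_mem_normalizer (h.nV h2)
  have h4 : cj g ((S : Subgroup G) ⊓ centralizer (V : Set G)) ≤ (S : Subgroup G) ⊓ centralizer (V : Set G) := by
    refine le_inf hg ?_
    rw [cj_inf, cj_centralizer, h3]
    exact inf_le_right
  exact Subgroup.eq_of_le_of_card_ge h4 (card_cj _ _).ge

/-- Sylow control: `O₂(X) ≤ M` for every `X ≥ K`. -/
theorem o2_le {X : Subgroup G} (hX : WH (S : Subgroup G) L ≤ X) : o2 X ≤ ML (S : Subgroup G) L := by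
  obtain ⟨T, hT, h1⟩ := exists_syl (S.isPGroup'.to_le (WH_le_S (S : Subgroup G) L)) hX
  exact (o2_le_syl hT).trans (Root.pgroup_le h.S_le hT.2.1 h1)

/-- `O₂(C_G(D)) ≤ M` for `D ≤ V`. -/
theorem o2_cent_le {D : Subgroup G} (hD : D ≤ V) : o2 (centralizer (D : Set G)) ≤ ML (S : Subgroup G) L :=
  h.o2_le (h.KV.trans (centralizer_le hD))

/-- **PRINCIPLE** -/
theorem principle {F : Set (Subgroup G)} (hF : ∀ A ∈ F, ∀ n ∈ ML (S : Subgroup G) L, cj n A ∈ F)
    {A : Subgroup G} (hA : A ∈ F) (hAS : A ≤ (S : Subgroup G)) (hAV : ¬ A ≤ centralizer (V : Set G)) :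
    ∃ B ∈ F, B ≤ (S : Subgroup G) ∧ ¬ B ≤ centralizer (zl (S : Subgroup G) L : Set G) := by
  by_contra hcon
  have hcon' : ∀ B ∈ F, B ≤ (S : Subgroup G) → B ≤ centralizer (zl (S : Subgroup G) L : Set G) := by
    intro B hB hBS
    by_contra h1
    exact hcon ⟨B, hB, hBS, h1⟩
  set K : Subgroup G := WH (S : Subgroup G) L ⊔ sSup {B | B ∈ F ∧ B ≤ (S : Subgroup G)} with hK
  have hKQ : K ≤ QL (S : Subgroup G) L :=
    sup_le (WH_le _ _) (sSup_le fun B hB => le_inf hB.2 (hcon' B hB.1 hB.2))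
  have hKW : K ≤ WH (S : Subgroup G) L := by
    refine le_WH ⟨hKQ.trans inf_le_left, fun g hg => ?_⟩ hKQ
    have h2 : g ∈ ML (S : Subgroup G) L := mem_ML_of_le ((cj_mono g le_sup_left).trans hg)
    have h4 : cj g K ≤ K := by
      change Subgroup.map _ _ ≤ _
      rw [hK, Subgroup.map_sup]
      refine sup_le_sup (cj_eq_of_mem_normalizer h2).le ?_
      change cj g (sSup {B | B ∈ F ∧ B ≤ (S : Subgroup G)}) ≤ _
      rw [cj_sSup]
      refine iSup_le fun B => ?_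
      have h5 : cj g (B : Subgroup G) ≤ (S : Subgroup G) :=
        (cj_mono g ((le_sSup B.2).trans le_sup_right)).trans hg
      exact le_sSup (a := cj g (B : Subgroup G)) ⟨hF _ B.2.1 g h2, h5⟩
    exact Subgroup.eq_of_le_of_card_ge h4 (card_cj _ _).ge
  have h6 : A ≤ K := (le_sSup (s := {B | B ∈ F ∧ B ≤ (S : Subgroup G)}) ⟨hA, hAS⟩).trans le_sup_right
  exact hAV (h6.trans (hKW.trans h.KV))

/-- A 2-subgroup of `M` is `M`-conjugate to a subgroup of `S`. -/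
theorem exists_conj_le {A : Subgroup G} (hA : IsPGroup 2 A) (hAM : A ≤ ML (S : Subgroup G) L) :
    ∃ n ∈ ML (S : Subgroup G) L, cj n A ≤ (S : Subgroup G) :=
  FFThm.exists_conj_le S h.S_le hA hAM

theorem pr : Pr (S : Subgroup G) (ML (S : Subgroup G) L) V L := by
  intro 𝒜 h𝒜 A hA hAM hA2 hAV
  obtain ⟨n, hn, hnS⟩ := h.exists_conj_le hA2 hAM
  refine h.principle h𝒜 (h𝒜 A hA n hn) hnS fun h1 => hAV ?_
  rwa [cj_le_iff, cj_centralizer, cj_eq_of_mem_normalizer (inv_mem (h.nV hn))] at h1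

/-- No offender in `M` implies `NotFF V`. -/
theorem nff (hno : ∀ A ≤ ML (S : Subgroup G) L, ¬ OffM V A) : NO3b.EZero.NotFF V := by
  intro A hA2 hAN hsq hcm hne
  by_contra hcon
  have hoff : OffM V A := { sq := hsq, comm := hcm, ne := hne, le := relIndex_le_iff.2 (not_lt.1 hcon) }
  obtain ⟨g, hg, hgS⟩ := FFThm.exists_conj_le S h.SV hA2 hAN
  refine hno (cj g A) (hgS.trans h.S_le) ?_
  refine NOThreeL.VF.offM_conj (inv_mem hg) hoff fun x => ?_
  rw [mem_cj, inv_inv]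

/-- The hypotheses of FLAT. -/
theorem flat (hc : IsCharacteristicTwoType G) (hn : NO3b.EZero.NotFF V) {F : Subgroup G} (hF : Bad V F)
    (hmax : ∀ D : Subgroup G, Bad V D → F ≤ D → D = F) : NOne.Flat.Hyp V F := by
  refine NOne.Flat.Hyp.of_noOff h.comm h.sq (fun D _ hD => (h.o2_cent_le hD).trans h.nV) ?_ ?_ hF hmax
  · intro A hA hoff
    obtain ⟨B, hBA, hB2, hB⟩ := NOThreeL.VF.exists_two hA hoff.toElemM
    have hne : ¬ B ≤ centralizer (V : Set G) := fun h1 => hoff.ne fun a ha => by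
      obtain ⟨b, hb, hab⟩ := hB a ha
      have h2 := mul_mem (h1 hb) hab
      rwa [mul_inv_cancel_left] at h2
    have hE := NOThreeL.VF.elemM_mono hoff.toElemM hBA
    have h2 := hn B hB2 (hBA.trans hA) hE.sq hE.comm hne
    have h3 : Nat.card V ≤ NOThreeL.VF.fM V B := by
      rw [NOThreeL.VF.fM_congr hBA hB]
      exact NOThreeL.VF.le_fM_iff.2 hoff.le
    exact absurd (relIndex_le_iff.1 (NOThreeL.VF.le_fM_iff.1 h3)) (not_le.2 h2)
  · exact NOne.LemmaT.char2_centralizer hc (h.V_two.to_le hF.le) hF.ne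

end Kf

variable [Finite G] {S : Sylow 2 G} {P V : Subgroup G}

theorem QL_eq (hc : IsCharacteristicTwoType G) (hP : IsParS (S : Subgroup G) P) : QL (S : Subgroup G) P = o2 P :=
  hP.inf_centralizer S hc

theorem WH_le_o2 (hc : IsCharacteristicTwoType G) (hP : IsParS (S : Subgroup G) P) : WH (S : Subgroup G) P ≤ o2 P :=
  (WH_le _ _).trans (QL_eq hc hP).le

/-- **(T1), general form** -/
theorem Kf.eq (h : Kf S P V) (hFF : StmtM.{u}) (hc : IsCharacteristicTwoType G) (hP : IsParS (S : Subgroup G) P)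
    (hcv : FrameFF.cv (S : Subgroup G) P = ⊥) (hoff : ∃ A ≤ ML (S : Subgroup G) P, OffM V A) :
    V = zl (S : Subgroup G) P ∧ WH (S : Subgroup G) P = o2 P := by
  have h1 := eq_pr hFF hc S hP hcv h.S_le h.L_le h.nV h.sq h.comm h.V_le_S h.LV h.pr hoff
  refine ⟨h1, ?_⟩
  rw [← h.cs_V, h1]
  exact QL_eq hc hP

/-- A bad subgroup of `V` gives a maximal bad `F` with `W_F ≤ S` moving `V_P`. -/
theorem Kf.exists_act (h : Kf S P V) (hy : Hyp S P) (hn : NO3b.EZero.NotFF V) {F₀ : Subgroup G} (hF₀ : Bad V F₀) :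
    ∃ F, BetaFF.Act S P V F := by
  have hc := hy.ctx.char2
  obtain ⟨F, -, hF, hmax⟩ := NOne.Flat.exists_max hF₀
  have hfl := h.flat hc hn hF hmax
  have hWM : NOne.Flat.WW V F ≤ ML (S : Subgroup G) P := NOne.Flat.Hyp.W_le_R.trans (h.o2_cent_le hF.le)
  have hmem : NOne.Flat.WW V F ∈ badFam V := ⟨F, hF, hmax, rfl⟩
  have h2 : IsPGroup 2 (NOne.Flat.WW V F : Subgroup G) := (ZN.isPGroup_o2 _).to_le NOne.Flat.Hyp.W_le_R
  obtain ⟨X, hX, hXS, hXL⟩ := h.pr (badFam V) (fun A hA m hm => badFam_cj (h.nV hm) hA) (NOne.Flat.WW V F) hmem hWM h2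
    (not_WW_le hfl)
  obtain ⟨F', hF', hmax', hXF⟩ := hX
  subst hXF
  have hfl' := h.flat hc hn hF' hmax'
  have hm : ¬ NOne.Flat.WW V F' ≤ o2 P := fun h1 => hXL (by
    rw [← hy.inf_centralizer] at h1
    exact h1.trans inf_le_right)
  exact ⟨F', BetaFF.Act.of_hyp hy hfl' h.LV (h.L_le.trans h.nV) hXS hm⟩

/-- `C_V(O₂(P)) = V_P` if `V` has a bad subgroup. -/
theorem Kf.cent_eq (h : Kf S P V) (hFF : StmtM.{u}) (hy : Hyp S P) (hn : NO3b.EZero.NotFF V) {F₀ : Subgroup G}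
    (hF₀ : Bad V F₀) : V ⊓ centralizer (o2 P : Set G) = zl (S : Subgroup G) P := by
  obtain ⟨F, ha⟩ := h.exists_act hy hn hF₀
  exact ha.cent_VQ hFF

/-! ### The two instances -/

section inst

variable (hc : IsCharacteristicTwoType G) (hP : IsParS (S : Subgroup G) P) (hj : jj (S : Subgroup G) ≤ o2 P)
include hc hP hj

theorem jj_le_WH : jj (S : Subgroup G) ≤ WH (S : Subgroup G) P :=
  le_WH (Level.wc_jj S) (hj.trans (QL_eq hc hP).ge)

/-- `K(P)` is a level. -/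
theorem lev_WH : Level.Lev (S : Subgroup G) (WH (S : Subgroup G) P) where
  le := WH_le_S _ _
  jjle := jj_le_WH hc hP hj
  norm := fun _ h1 h2 => Root.norm_le h1 h2

/-- `Ω₁(Z(O₂(P))) ≤ Ω₁(Z(K))` -/
theorem zc_o2_le : zc (o2 P) ≤ zc (WH (S : Subgroup G) P) :=
  (lev_WH hc hP hj).zc_o2_le (WH_le_o2 hc hP) (hP.isLoc.o2_le S)

omit hj in
theorem norm_QL : P ≤ normalizer (QL (S : Subgroup G) P : Set G) := by
  rw [QL_eq hc hP]
  exact MinSimple.VModule.le_normalizer_o2 P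

/-- The frame for a normal subgroup `V` of `M`, `V_P ≤ V ≤ Ω₁(Z(K))`. -/
theorem kf_of {V : Subgroup G} (h1 : zl (S : Subgroup G) P ≤ V) (h2 : V ≤ zc (WH (S : Subgroup G) P))
    (h3 : ML (S : Subgroup G) P ≤ normalizer (V : Set G)) : Kf S P V where
  le := hP.le
  cs := norm_QL hc hP
  sq := fun _ hv => (ZN.mem_zc.1 (h2 hv)).2.2
  comm := fun _ hv => mem_centralizer_iff.2 fun w hw => ((ZN.mem_zc.1 (h2 hv)).2.1 w (ZN.mem_zc.1 (h2 hw)).1)
  LV := h1
  KV := fun k hk => mem_centralizer_iff.2 fun _ hv => ((ZN.mem_zc.1 (h2 hv)).2.1 k hk).symm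
  nV := h3

/-- The frame for `V(P)`. -/
theorem kf_VL : Kf S P (VL (S : Subgroup G) P) := by
  have hPM : P ≤ ML (S : Subgroup G) P := by
    refine (MinSimple.VModule.le_normalizer_o2 P).trans ?_
    exact Root.norm_le (WH_le_o2 hc hP) (hP.isLoc.o2_le S)
  refine kf_of hc hP hj (NOThreeL.Star.zl_mono _ hPM) ?_ (le_normalizer_zl _ _)
  exact MinSimple.VModule.zl_le (lev_WH hc hP hj).zc_le (Level.normalizer_le_zc _)

end inst

/-- `⟨Y^M⟩` -/
theorem normalizer_V (Y M : Subgroup G) : M ≤ normalizer (NoFF.Basic.V Y M : Set G) := by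
  intro m hm
  rw [mem_normalizer_iff_cj]
  have key : ∀ n ∈ M, cj n (NoFF.Basic.V Y M) ≤ NoFF.Basic.V Y M := by
    intro n hn
    have h1 : NoFF.Basic.V Y M ≤ MulAut.conj n⁻¹ • NoFF.Basic.V Y M := by
      refine NoFF.Basic.V_le fun p hp => ?_
      have h2 : MulAut.conj (n * p) • Y ≤ NoFF.Basic.V Y M := NoFF.Basic.Z_le_V (mul_mem hn hp)
      have h3 := NoFF.Basic.conj_le_iff (g := n⁻¹) |>.2 h2
      rwa [NoFF.Basic.conj_conj, inv_mul_cancel_left] at h3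
    have h2 := NoFF.Basic.conj_le_iff (g := n) |>.2 h1
    rwa [NoFF.Basic.conj_conj, mul_inv_cancel, map_one, one_smul] at h2
  exact Subgroup.eq_of_le_of_card_ge (key m hm) (card_cj _ _).ge

/-- `⟨Ω₁(Z(O₂(P)))^M⟩`, `M = N_G(K(P))` -/
def YP (S P : Subgroup G) : Subgroup G := NoFF.Basic.V (zc (o2 P)) (ML S P)

theorem zc_le_YP (S P : Subgroup G) : zc (o2 P) ≤ YP S P := by
  have := NoFF.Basic.Z_le_V (Z := zc (o2 P)) (P := ML S P) (one_mem _)
  rwa [map_one, one_smul] at this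

section main

variable (hFF : StmtM.{u}) (h : Hyp S P) (hj : jj (S : Subgroup G) ≤ o2 P)

include h hj

/-- The frame for `⟨Ω₁(Z(O₂(P)))^M⟩`. -/
theorem kf_YP : Kf S P (YP (S : Subgroup G) P) := by
  have hc := h.ctx.char2
  refine kf_of hc h.star hj (h.zl_le.trans (zc_le_YP _ _)) ?_ (normalizer_V _ _)
  refine NoFF.Basic.V_le fun m hm => ?_
  have h1 := cj_mono m (zc_o2_le hc h.star hj)
  have h2 : cj m (zc (WH (S : Subgroup G) P)) = zc (WH (S : Subgroup G) P) :=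
    cj_eq_of_mem_normalizer (Level.normalizer_le_zc _ hm)
  rw [h2] at h1
  exact h1

include hFF

/-- **(T1), DICHOTOMY**: `V(P)` is not FF, or `V(P) = V_P` and `O₂(P) = K(P)` is weakly closed in `S`. -/
theorem dichotomy : NO3b.EZero.NotFF (VL (S : Subgroup G) P) ∨
    (VL (S : Subgroup G) P = zl (S : Subgroup G) P ∧ WH (S : Subgroup G) P = o2 P) := by
  have hk := kf_VL h.ctx.char2 h.star hj
  by_cases hoff : ∃ A ≤ ML (S : Subgroup G) P, OffM (VL (S : Subgroup G) P) A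
  · exact Or.inr (hk.eq hFF h.ctx.char2 h.star h.cv hoff)
  · push Not at hoff
    exact Or.inl (hk.nff hoff)

/-- In the second case `O₂(P)` is weakly closed and `N_G(T) ≤ N_G(V_P)` for `O₂(P) ≤ T ≤ S`. -/
theorem norm_of_eq (hK : WH (S : Subgroup G) P = o2 P) (hV : VL (S : Subgroup G) P = zl (S : Subgroup G) P) :
    WC (S : Subgroup G) (o2 P) ∧ ∀ T : Subgroup G, o2 P ≤ T → T ≤ (S : Subgroup G) →
      normalizer (T : Set G) ≤ normalizer (zl (S : Subgroup G) P : Set G) := by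
  have h1 : WC (S : Subgroup G) (o2 P) := hK ▸ wc_WH (S : Subgroup G) P
  refine ⟨h1, fun T hT1 hT2 => ?_⟩
  have h2 : normalizer (T : Set G) ≤ ML (S : Subgroup G) P := Root.norm_le (hK.le.trans hT1) hT2
  refine h2.trans ?_
  rw [← hV]
  exact ML_le_norm_V _ _

/-- **(T2)**: if `Ω₁(Z(O₂(P))) ≠ V_P`, then `Y = ⟨Ω₁(Z(O₂(P)))^M⟩` is not FF and has no bad subgroup. -/
theorem t2 (hne : zc (o2 P) ≠ zl (S : Subgroup G) P) :
    NO3b.EZero.NotFF (YP (S : Subgroup G) P) ∧ ∀ F, ¬ Bad (YP (S : Subgroup G) P) F := by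
  have hk := kf_YP h hj
  have hn : NO3b.EZero.NotFF (YP (S : Subgroup G) P) := by
    refine hk.nff fun A hA hoff => hne ?_
    have h1 := (hk.eq hFF h.ctx.char2 h.star h.cv ⟨A, hA, hoff⟩).1
    exact le_antisymm ((zc_le_YP _ _).trans h1.le) h.zl_le
  refine ⟨hn, fun F₀ hF₀ => hne ?_⟩
  have h1 := hk.cent_eq hFF h hn hF₀
  refine le_antisymm ?_ h.zl_le
  rw [← h1]
  refine le_inf (zc_le_YP _ _) fun v hv => mem_centralizer_iff.2 fun q hq => ?_
  exact (ZN.mem_zc.1 hv).2.1 q hq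

/-- **(T2)** in the form `Y ≤ O₂(C_G(D))` for `1 ≠ D ≤ Y`. -/
theorem t2' (hne : zc (o2 P) ≠ zl (S : Subgroup G) P) {D : Subgroup G} (hD : D ≠ ⊥)
    (hDY : D ≤ YP (S : Subgroup G) P) : YP (S : Subgroup G) P ≤ o2 (centralizer (D : Set G)) := by
  by_contra hcon
  exact (t2 hFF h hj hne).2 D ⟨hD, hDY, hcon⟩

/-- **(T3)** -/
theorem t3 (hn : NO3b.EZero.NotFF (VL (S : Subgroup G) P)) {F₀ : Subgroup G} (hF₀ : Bad (VL (S : Subgroup G) P) F₀) :
    zc (o2 P) = zl (S : Subgroup G) P ∧ ∃ F, BetaFF.Act S P (VL (S : Subgroup G) P) F := by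
  have hk := kf_VL h.ctx.char2 h.star hj
  refine ⟨?_, hk.exists_act h hn hF₀⟩
  by_contra hne
  refine (t2 hFF h hj hne).2 F₀ ⟨hF₀.ne, ?_, fun h1 => hF₀.not_le ?_⟩
  · refine hF₀.le.trans ?_
    exact MinSimple.VModule.zl_le ((MinSimple.VModule.zc_le_zl _ _).trans (h.zl_le.trans (zc_le_YP _ _)))
      (normalizer_V _ _)
  · refine le_trans ?_ h1
    exact MinSimple.VModule.zl_le ((MinSimple.VModule.zc_le_zl _ _).trans (h.zl_le.trans (zc_le_YP _ _)))
      (normalizer_V _ _)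

end main

end Cfsg.Agent.Omega.NO3S.Gamma
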