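import Cfsg.Agent.Omega.NOThreeL.VF.All

/-!
# THEOREM VF with a PRINCIPLE for one minimal parabolic (helper905 #19871 (T1), helper863, helper781 #19713 (A))

`P ∈ P*(S)`, `P ≤ M`, `V_P ≤ W`, `W` an elementary abelian subgroup of `S` normalised by `M ≥ S`.

* `Pr S M W P` : the PRINCIPLE: an `M`-invariant family of subgroups with a 2-subgroup of `M` which moves `W` has a
  member in `S` which moves `V_P`;
* `one_pr` : if `M` has an offender on `W`, then there is no over-offender on `W`, and there is an offender `A ≤ S` on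
  `W` and on `V_P` with `C_A(V_P) = C_A(W)`; the conclusion of the FF theorem holds for `P`;
* `eq_pr` : if moreover `C_{V_P}(O²(P)) = 1`, then `W = V_P`.
-/

set_option autoImplicit false
set_option linter.unusedSectionVars false

namespace Cfsg.Agent.Omega.NO3S.Gamma

open Subgroup Cfsg Cfsg.Agent.ZN Cfsg.Agent.ZN.ChoiceBase Cfsg.Agent.ZN.ChoiceSit Cfsg.Agent.Omega.MinPar
open Cfsg.Agent.Omega.FFThm
open Cfsg.Agent.Omega.NOThreeL.VF
open Cfsg.Agent.Omega.FrameFF (cv)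

universe u

variable {G : Type u} [Group G] [Finite G]

/-- **The PRINCIPLE** for `P`. -/
def Pr (S M W P : Subgroup G) : Prop :=
  ∀ 𝒜 : Set (Subgroup G), (∀ A ∈ 𝒜, ∀ m ∈ M, cj m A ∈ 𝒜) → ∀ A ∈ 𝒜, A ≤ M → IsPGroup 2 A →
    ¬ A ≤ centralizer (W : Set G) → ∃ B ∈ 𝒜, B ≤ S ∧ ¬ B ≤ centralizer (zl S P : Set G)

/-- **(1)** over the PRINCIPLE -/
theorem one_pr (hFF : StmtM.{u}) (hc : IsCharacteristicTwoType G) (S : Sylow 2 G) {M V P : Subgroup G}
    (hP : IsParS (S : Subgroup G) P) (hSM : (S : Subgroup G) ≤ M) (hMV : M ≤ normalizer (V : Set G))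
    (hWV : zl (S : Subgroup G) P ≤ V) (pr : Pr (S : Subgroup G) M V P)
    (hoff : ∃ A ≤ M, OffM V A) :
    NoOverM V M ∧ ∃ A ≤ (S : Subgroup G),
      OffM V A ∧ OffM (zl (S : Subgroup G) P) A ∧
      A ⊓ centralizer (zl (S : Subgroup G) P : Set G) ≤ centralizer (V : Set G) ∧
      NoOverM (zl (S : Subgroup G) P) P ∧ ConclM (S : Subgroup G) P := by
  classical
  -- the class
  let 𝒞 : Set (Subgroup G) := {B | B ≤ M ∧ IsPGroup 2 B ∧ ElemM V B ∧ ¬ B ≤ centralizer (V : Set G)}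
  have hcen : ∀ m ∈ M, ∀ B : Subgroup G, cj m B ≤ centralizer (V : Set G) → B ≤ centralizer (V : Set G) := by
    intro m hm B hB
    have h3 : cj m⁻¹ V = V := cj_eq_of_mem_normalizer (inv_mem (hMV hm))
    rwa [cj_le_iff, cj_centralizer, h3] at hB
  have hcj𝒞 : ∀ B ∈ 𝒞, ∀ m ∈ M, cj m B ∈ 𝒞 := by
    rintro B ⟨h1, h2, h3, h4⟩ m hm
    refine ⟨?_, ?_, elemM_cj (hMV hm) h3, fun h => h4 (hcen m hm B h)⟩
    · have h5 := cj_mono m h1
      rwa [cj_eq_of_mem_normalizer (le_normalizer hm)] at h5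
    · exact h2.map _
  -- replacement
  have hrep : ∀ A ≤ M, ElemM V A → ¬ A ≤ centralizer (V : Set G) → ∃ B ∈ 𝒞, fM V B = fM V A := by
    intro A hA hE hne
    obtain ⟨B, hB, hB2, h⟩ := exists_two (hA.trans hMV) hE
    refine ⟨B, ⟨hB.trans hA, hB2, elemM_mono hE hB, fun h1 => hne fun a ha => ?_⟩, fM_congr hB h⟩
    obtain ⟨b, hb, hab⟩ := h a ha
    have h2 := mul_mem (h1 hb) hab
    have e : b * (b⁻¹ * a) = a := by group
    rwa [e] at h2
  obtain ⟨A₀, hA₀M, hA₀⟩ := hoff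
  obtain ⟨B₀, hB₀, hfB₀⟩ := hrep A₀ hA₀M hA₀.toElemM hA₀.ne
  have hVf₀ : Nat.card V ≤ fM V B₀ := by
    rw [hfB₀]
    exact le_fM_iff.2 hA₀.le
  obtain ⟨B₁, hB₁, hmax⟩ := Set.exists_max_image 𝒞 (fM V) (Set.toFinite _) ⟨B₀, hB₀⟩
  obtain ⟨B, ⟨hB, hBf⟩, hmin⟩ := Set.exists_min_image {B | B ∈ 𝒞 ∧ fM V B = fM V B₁}
    (fun B => (centralizer (V : Set G)).relIndex B) (Set.toFinite _) ⟨B₁, hB₁, rfl⟩
  -- move it into `S`
  obtain ⟨A, ⟨hA𝒞, hfA, hrel⟩, hmS, hmP⟩ := pr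
    {A | A ∈ 𝒞 ∧ fM V A = fM V B₁ ∧ (centralizer (V : Set G)).relIndex A =
      (centralizer (V : Set G)).relIndex B}
    (by
      rintro A ⟨h1, h2, h3⟩ m hm
      have h4 := fM_cj (A := A) (hMV hm)
      exact ⟨hcj𝒞 A h1 m hm, h4.1.trans h2, h4.2.trans h3⟩)
    B ⟨hB, hBf, rfl⟩ hB.1 hB.2.1 hB.2.2.2
  have hAM : A ≤ M := hmS.trans hSM
  have hAE : ElemM V A := hA𝒞.2.2.1
  set W : Subgroup G := zl (S : Subgroup G) P with hWd
  have hCVW : centralizer (V : Set G) ≤ centralizer (W : Set G) := centralizer_le hWV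
  have hAne : ¬ A ≤ centralizer (V : Set G) := fun h => hmP (h.trans hCVW)
  have hAW : ElemM W A := ⟨fun a ha => hCVW (hAE.sq a ha), fun a ha b hb => hCVW (hAE.comm a ha b hb)⟩
  have hPFF : (∃ A ≤ P, OffM W A) → NoOverM W P ∧ ConclM (S : Subgroup G) P := fun h =>
    hFF G (S : Subgroup G) P (syl_of_sylow S hP.le) hP.toIsMinPar (hP.isLoc.char2 S hc) h
  -- no over-offender on `W`
  have hno : Nat.card A * Nat.card ↥(W ⊓ centralizer (A : Set G)) ≤
      Nat.card W * Nat.card ↥(A ⊓ centralizer (W : Set G)) := by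
    by_contra hcon
    have hoffW : OffM W A := ⟨hAW, hmP, (not_le.1 hcon).le⟩
    exact hcon ((hPFF ⟨A, hmS.trans hP.le, hoffW⟩).1 A (hmS.trans hP.le) hAW)
  have hle := fM_le hWV hno
  set A₁ : Subgroup G := A ⊓ centralizer (W : Set G) with hA₁
  have hA₁V : A₁ ≤ centralizer (V : Set G) := by
    by_contra hcon
    have hmem : A₁ ∈ 𝒞 := ⟨inf_le_left.trans hAM, (S.isPGroup'.to_le hmS).to_le inf_le_left,
      elemM_mono hAE inf_le_left, hcon⟩
    have h1 := hmax A₁ hmem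
    have h2 : fM V A₁ = fM V B₁ := le_antisymm h1 (hfA ▸ hle)
    have h3 := hmin A₁ ⟨hmem, h2⟩
    rw [← hrel] at h3
    have e4 : A₁ ⊓ centralizer (V : Set G) = A ⊓ centralizer (V : Set G) := by
      rw [hA₁, inf_assoc, inf_eq_right.2 hCVW]
    have h4 : Nat.card A ≤ Nat.card A₁ := by
      rw [card_eq_rel V A, card_eq_rel V A₁, e4]
      exact Nat.mul_le_mul_right _ h3
    have h5 : A₁ = A := Subgroup.eq_of_le_of_card_ge inf_le_left h4
    exact hmP (inf_eq_left.1 h5)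
  have hfA₁ : fM V A₁ = Nat.card V := fM_of_le hA₁V
  have hfB₁ : fM V B₁ = Nat.card V :=
    le_antisymm (hfA ▸ hfA₁ ▸ hle) (hVf₀.trans (hmax B₀ hB₀))
  have hNO : NoOverM V M := by
    intro D hD hE
    rw [← fM_le_iff]
    by_cases hne : D ≤ centralizer (V : Set G)
    · exact (fM_of_le hne).le
    · obtain ⟨B', hB', h1⟩ := hrep D hD hE hne
      rw [← h1, ← hfB₁]
      exact hmax B' hB'
  have hfAV : fM V A = Nat.card V := hfA.trans hfB₁
  have hoffV : OffM V A := ⟨hAE, hAne, le_fM_iff.1 hfAV.ge⟩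
  have hoffW : OffM W A := by
    refine ⟨hAW, hmP, ?_⟩
    have h3 := card_mul_card_le hWV (inf_le_left : V ⊓ centralizer (A : Set G) ≤ V)
    have e3 : W ⊓ (V ⊓ centralizer (A : Set G)) = W ⊓ centralizer (A : Set G) := by
      rw [← inf_assoc, inf_eq_left.2 hWV]
    rw [e3] at h3
    have h4 := fM_mul V A
    rw [hfAV] at h4
    have e4 : A₁ = A ⊓ centralizer (V : Set G) := by
      apply le_antisymm
      · exact le_inf inf_le_left hA₁V
      · exact inf_le_inf le_rfl hCVW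
    rw [← e4] at h4
    have p1 : 0 < Nat.card V := Nat.card_pos
    have h5 : Nat.card V * (Nat.card W * Nat.card A₁) ≤
        Nat.card V * (Nat.card A * Nat.card ↥(W ⊓ centralizer (A : Set G))) := by
      calc Nat.card V * (Nat.card W * Nat.card A₁) = Nat.card W * (Nat.card V * Nat.card A₁) := by ring
        _ = Nat.card W * (Nat.card A * Nat.card ↥(V ⊓ centralizer (A : Set G))) := by rw [h4]
        _ = Nat.card A * (Nat.card W * Nat.card ↥(V ⊓ centralizer (A : Set G))) := by ring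
        _ ≤ Nat.card A * (Nat.card V * Nat.card ↥(W ⊓ centralizer (A : Set G))) := Nat.mul_le_mul_left _ h3
        _ = _ := by ring
    exact Nat.le_of_mul_le_mul_left h5 p1
  have h9 := hPFF ⟨A, hmS.trans hP.le, hoffW⟩
  exact ⟨hNO, A, hmS, hoffV, hoffW, hA₁V, h9.1, h9.2⟩

/-- **THEOREM VF over the PRINCIPLE**: `C_{V_P}(O²(P)) = 1` and an offender on `W` give `W = V_P`. -/
theorem eq_pr (hFF : StmtM.{u}) (hc : IsCharacteristicTwoType G) (S : Sylow 2 G) {M W P : Subgroup G}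
    (hP : IsParS (S : Subgroup G) P) (hcv : cv (S : Subgroup G) P = ⊥) (hSM : (S : Subgroup G) ≤ M)
    (hPM : P ≤ M) (hMW : M ≤ normalizer (W : Set G)) (hsq : ∀ w ∈ W, w ^ 2 = 1)
    (hcm : W ≤ centralizer (W : Set G)) (hWS : W ≤ (S : Subgroup G))
    (hVW : zl (S : Subgroup G) P ≤ W) (pr : Pr (S : Subgroup G) M W P)
    (hoff : ∃ A ≤ M, OffM W A) : W = zl (S : Subgroup G) P := by
  obtain ⟨no, A, hA, offW, offV, hAC, hno, hcon⟩ := one_pr hFF hc S hP hSM hMW hVW pr hoff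
  have hSP : (S : Subgroup G) ≤ P := hP.le
  have s : Q.Sit M W (zl (S : Subgroup G) P) :=
    { ab := fun x hx y hy => (mem_centralizer_iff.1 (hcm hx) y hy).symm
      sq := fun x hx => by rw [← pow_two]; exact hsq x hx
      VW := hVW
      nW := hMW }
  refine le_antisymm ?_ hVW
  rcases hcon with ⟨F, _, _, _, k, hk, ⟨N⟩⟩ | ⟨k, m, hk, hm, ⟨N⟩⟩
  · rw [hcv] at N
    exact Q.nat_le N s S.isPGroup' hSP hPM hWS no hno hA offW offV.ne hAC
  · rw [hcv] at N
    exact Q.S.sym_le N (by omega) s S.isPGroup' hSP hPM hWS no hno hA offW offV.ne hAC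

end Cfsg.Agent.Omega.NO3S.Gamma
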