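import Cfsg.Agent.Omega.NO3S.Level.CaseL
import Cfsg.Agent.Omega.Node.NO3SLevel

/-!
# The plug of the socket `GammaFF` (helper555, over helper781's cut #21519)

`GammaFF K` follows from `NotFFG K` and five leaves:

* `WNf K` : the W-stage with `V₁ = ⟨Z^{P*(S)}⟩` not FF and not in `Q_Z` ((S1), (S2), (S3) of the card #19733);
* `WLine K` : the W-stage with `V₁ = V_R`, `R ∈ P**` ((S5));
* `NfRoot K` : no bad subgroup, `V₁ = V_R`, `V₀` not FF ((C)(2));
* `CaseGK K` : the case (G) ((S4));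
* `CaseLK K` : the case (L).
-/

set_option autoImplicit false

namespace Cfsg.Agent.Omega.NO3S.GammaPlug

open Subgroup Cfsg Cfsg.Agent.ZN Cfsg.Agent.Omega.MinPar Cfsg.Agent.Omega.Frame Cfsg.Agent.Omega.FrameNOFF
open Cfsg.Agent.Omega.NO3S.Level
open Cfsg.Agent.Omega.NOThreeL.Merge (MZ HypG NotFFG)
open Cfsg.Agent.Omega.NOThreeL.MergeNF (NFRoot)

universe u

section leaves

variable (K : Cls.{u})

/-- (S1), (S2), (S3): the W-stage with `V₁` not FF. -/
def WNf : Prop :=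
  ∀ (G : Type u) [Group G] [Finite G], K G → ∀ (S : Sylow 2 G) (P F : Subgroup G), WSt S P F →
    ¬ FFMod (S : Subgroup G) (MZ (S : Subgroup G)) →
    ¬ zl (S : Subgroup G) (MZ (S : Subgroup G)) ≤ o2 (CZ (S : Subgroup G)) → IsKnownSimple' G

/-- (S5): the W-stage with `V₁ = V_R`. -/
def WLine : Prop :=
  ∀ (G : Type u) [Group G] [Finite G], K G → ∀ (S : Sylow 2 G) (P F R : Subgroup G), WSt S P F →
    PSS (S : Subgroup G) R → zl (S : Subgroup G) (MZ (S : Subgroup G)) = zl (S : Subgroup G) R → IsKnownSimple' G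

/-- (C)(2): `V₁ = V_R`, `V₀ = ⟨Z^{M₀}⟩` not FF, no W-stage. -/
def NfRoot : Prop :=
  ∀ (G : Type u) [Group G] [Finite G], K G → ∀ (S : Sylow 2 G) (R : Subgroup G), W0 S →
    NFRoot (S : Subgroup G) (M0 (S : Subgroup G)) →
    PSS (S : Subgroup G) R → zl (S : Subgroup G) (MZ (S : Subgroup G)) = zl (S : Subgroup G) R → IsKnownSimple' G

/-- (S4) = (G). -/
def CaseGK : Prop :=
  ∀ (G : Type u) [Group G] [Finite G], K G → ∀ (S : Sylow 2 G) (P : Subgroup G), CaseG S P → IsKnownSimple' G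

/-- (L). -/
def CaseLK : Prop :=
  ∀ (G : Type u) [Group G] [Finite G], K G → ∀ (S : Sylow 2 G) (P : Subgroup G), CaseL S P → IsKnownSimple' G

end leaves

variable {K : Cls.{u}}

/-- **The plug.** -/
theorem gammaFF_of (hNF : NotFFG K) (h1 : WNf K) (h2 : WLine K) (h3 : NfRoot K) (h4 : CaseGK K) (h5 : CaseLK K) :
    GammaFF K := by
  intro G _ _ hK S h hall
  rcases cut' h (fun P hP => (hall P hP).2) (fun P hP => (hall P hP).1) with ⟨P, hP⟩ | hG | ⟨P, F, hW, ⟨R, hR, he⟩ | ⟨hn, hq⟩⟩ |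
    ⟨w, hr, R, hR, he⟩ | ⟨P, hP⟩
  · exact h5 G hK S P hP
  · exact hNF G hK S _ hG
  · exact h2 G hK S P F R hW hR he
  · exact h1 G hK S P F hW hn hq
  · exact h3 G hK S R w hr hR he
  · exact h4 G hK S P hP

end Cfsg.Agent.Omega.NO3S.GammaPlug
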